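import Mathlib
import Cfsg.Agent.S1119
import Cfsg.Agent.AschCrit.PSUTorus
import Cfsg.Agent.SmallSimple.SylFiveReduce
/-!
# The number of the Sylow 2-subgroups of a central extension of `PSU₃(2^n)` (helper207, for S3145)
-/

set_option autoImplicit false
set_option linter.unusedSectionVars false

namespace Cfsg.Agent.H207.OddU

open Subgroup

/-- the number of the Sylow 2-subgroups in a rank one set-up -/
theorem card_sylow_setup {G Ω : Type*} [Group G] [Finite G] [MulAction G Ω] {a : Ω} {t : G} {Q : Subgroup G}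
    (hS : Cfsg.IsRankOneSetup G Ω a t Q) (hQ : IsPGroup 2 Q) [Fact (Nat.Prime 2)] :
    Nat.card (Sylow 2 G) = Nat.card Q + 1 := by
  obtain ⟨hreg, hcard, -, ⟨P, hP⟩, -⟩ := Cfsg.Agent.S1119.result hS
  have hPQ : (P : Subgroup G) = Q := (P.3 hQ hP).symm
  have hN : normalizer (P : Set G) = MulAction.stabilizer G a := by
    have e : (P : Set G) = (Q : Set G) := congrArg (fun X : Subgroup G => (X : Set G)) hPQ
    rw [e]
    apply le_antisymm
    · intro g hg
      by_contra hga
      have hne : g • a ≠ a := hga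
      -- `Q` fixes `g • a`
      have h1 : ∀ x ∈ Q, x • g • a = g • a := by
        intro x hx
        have h2 : g⁻¹ * x * g ∈ Q := by
          have := (mem_normalizer_iff.1 (inv_mem hg) x).1 hx
          rwa [inv_inv] at this
        have h3 : (g⁻¹ * x * g) • a = a := hS.le h2
        calc x • g • a = g • (g⁻¹ * x * g) • a := by rw [smul_smul, smul_smul]; congr 1; group
          _ = g • a := by rw [h3]
      have h4 : Q = ⊥ := by
        rw [eq_bot_iff_forall]
        intro x hx
        exact Cfsg.Agent.S1119.eq_one_of_smul_eq hS hne hx (h1 x hx)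
      have h5 := hS.even_card
      rw [h4, card_bot] at h5
      exact absurd h5 (by decide)
    · intro h hh
      rw [mem_normalizer_iff]
      intro x
      refine ⟨fun hx => hS.conj_mem h hh x hx, fun hx => ?_⟩
      have := hS.conj_mem h⁻¹ (inv_mem hh) _ hx
      have e : h⁻¹ * (h * x * h⁻¹) * h⁻¹⁻¹ = x := by group
      rwa [e] at this
  have htr : MulAction.IsPretransitive G Ω := by
    have h2 := hS.two_transitive
    exact MulAction.isPretransitive_of_is_two_pretransitive
  rw [P.card_eq_index_normalizer, hN, MulAction.index_stabilizer_of_transitive, hcard]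

/-- the number of the Sylow 2-subgroups of `PSU₃(2^n)` -/
theorem card_sylow_psu {F : Type*} [Field F] [Finite F] {n : ℕ} (hn : 1 ≤ n) (hF : Nat.card F = (2 ^ n) ^ 2)
    [Fact (Nat.Prime 2)] :
    ∃ m, Nat.card (Sylow 2 (Cfsg.PSU 3 F (2 ^ n))) = 2 ^ m + 1 ∧ 2 ^ (n * 3) ∣ Nat.card (Cfsg.PSU 3 F (2 ^ n)) := by
  obtain ⟨hch, σ, hσ, hs, -⟩ := Cfsg.Agent.LieRecognition.PSUThreeSylow.exists_heis_equiv F hn hF
  obtain ⟨H, S, w, ψ, hfaith, hS, -⟩ := Cfsg.Agent.AschCrit.PSUTorus.exists_model (F := F) (σ := σ) hn hs hF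
  have : Finite (Cfsg.PSU 3 F (2 ^ n)) := Quotient.finite _
  have hq : 1 < 2 ^ n := Nat.one_lt_two_pow (by omega)
  have hcardS : Nat.card S = 2 ^ (n * 3) := by
    rw [← Nat.card_congr ψ.toEquiv, Cfsg.Agent.LieRecognition.HermHeis.card_heis hq hs hF, ← pow_mul]
  refine ⟨n * 3, ?_, hcardS ▸ card_subgroup_dvd_card S⟩
  rw [card_sylow_setup hS (IsPGroup.of_card hcardS), hcardS]

theorem card_sylow_congr {A B : Type*} [Group A] [Group B] [Finite A] (r : ℕ) [Fact r.Prime] (e : A ≃* B) :
    Nat.card (Sylow r A) = Nat.card (Sylow r B) := by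
  have : Finite B := Finite.of_equiv A e.toEquiv
  obtain ⟨P⟩ : Nonempty (Sylow r A) := inferInstance
  let Q : Sylow r B := P.mapSurjective (f := e.toMonoidHom) e.surjective
  rw [P.card_eq_index_normalizer, Q.card_eq_index_normalizer]
  have h1 : normalizer (Q : Set B) = (normalizer (P : Set A)).map e.toMonoidHom := by
    change normalizer (((P : Subgroup A).map e.toMonoidHom : Subgroup B) : Set B) = _
    exact (map_equiv_normalizer_eq (P : Subgroup A) e).symm
  rw [h1]
  exact (index_map_equiv _ e).symm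

/-- central quotients have the same number of Sylow subgroups -/
theorem card_sylow_center {K : Type*} [Group K] [Finite K] (r : ℕ) [Fact r.Prime] :
    Nat.card (Sylow r (K ⧸ center K)) = Nat.card (Sylow r K) :=
  Cfsg.Agent.SmallSimple.SylFiveReduce.card_sylow_quotient (center K) fun _ => center_le_normalizer _

/-- **the number of the Sylow 2-subgroups**, `K / Z(K) ≅ PSU₃(2^n)` -/
theorem not_modEq {K : Type*} [Group K] [Finite K] {F : Type*} [Field F] [Finite F] {n : ℕ} (hn : 1 ≤ n)
    (hF : Nat.card F = (2 ^ n) ^ 2) (e : (K ⧸ center K) ≃* Cfsg.PSU 3 F (2 ^ n)) {p : ℕ} (hp : p.Prime) (hp2 : p ≠ 2)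
    [Fact (Nat.Prime 2)] : ¬ Nat.card (Sylow 2 K) ≡ 1 [MOD p] := by
  obtain ⟨m, hm, -⟩ := card_sylow_psu hn hF
  have : Finite (K ⧸ center K) := Quotient.finite _
  rw [← card_sylow_center, card_sylow_congr 2 e, hm]
  intro h
  have h1 : 2 ^ m ≡ 0 [MOD p] := Nat.ModEq.add_right_cancel' 1 (by rwa [zero_add])
  have h2 : p ∣ 2 ^ m := (Nat.modEq_zero_iff_dvd).1 h1
  exact hp2 ((Nat.prime_dvd_prime_iff_eq hp Nat.prime_two).1 (hp.dvd_of_dvd_pow h2))

end Cfsg.Agent.H207.OddU
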