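import Mathlib
import Cfsg.Agent.H283.OddComp
import Cfsg.Agent.H289.NoAlt
import Cfsg.Agent.KFacts.RgdLieCharP
import Cfsg.Agent.H337.Bend.Iface
import Cfsg.Agent.H207.OddU.BN
import Cfsg.Agent.H207.OddU.Local
import Cfsg.Agent.H207.OddU.Number
/-!
# S3145, piece OddU (helper207)

No standard subgroup of type `U₃(2^n)` with `m₂(C(K)) ≥ 2` in a group of Lie type of odd characteristic.
-/

set_option autoImplicit false
set_option linter.unusedSectionVars false

namespace Cfsg.Agent.H207.OddU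

open Cfsg Subgroup Cfsg.Agent.FixBN Cfsg.Agent.BpGate Cfsg.Agent.H283.DescInst Cfsg.Agent.H283.OddComp

universe u

/-- the numbers of the Sylow subgroups of the quasisimple normal `p'`-subgroups of the `C_G(x)`, `x ∈ Aut(G)`, `x² = 1` -/
def NRow (p : ℕ) (G : Type*) [Group G] : Prop :=
  ∀ x : MulAut G, x ^ 2 = 1 → ∀ A : Subgroup ↥(fixedSubgroup x), A.Normal → IsQuasisimple ↥A →
    (Nat.card A).Coprime p → ∀ (r : ℕ) [Fact r.Prime], Nat.card (Sylow r ↥A) ≡ 1 [MOD p]

/-- quasisimplicity is invariant under isomorphisms -/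
theorem quasi_congr {A B : Type*} [Group A] [Group B] (e : A ≃* B) (h : IsQuasisimple A) : IsQuasisimple B := by
  have := h.1
  refine ⟨Group.IsPerfect.ofSurjective (f := e.toMonoidHom) e.surjective, ?_⟩
  obtain ⟨f⟩ := exists_quoEquiv e
  have := h.2
  exact f.symm.isSimpleGroup

theorem NRow.congr {p : ℕ} {K K' : Type*} [Group K] [Group K'] [Finite K] (e : K ≃* K') (h : NRow p K) : NRow p K' := by
  intro x hx A hA hq hcop r hr
  obtain ⟨y, hy⟩ : ∃ y : MulAut K, y = (MulAut.congr e).symm x := ⟨_, rfl⟩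
  have hxy : MulAut.congr e y = x := by rw [hy, MulEquiv.apply_symm_apply]
  subst hxy
  have h2 : y ^ 2 = 1 := by
    rw [← map_pow] at hx
    exact (MulAut.congr e).injective (by rw [hx, map_one])
  have f := CpAut.fixEquiv e y
  have k := A.equivMapOfInjective f.symm.toMonoidHom f.symm.injective
  have : Finite K' := Finite.of_equiv K e.toEquiv
  have h4 := h y h2 (A.map f.symm.toMonoidHom) (hA.map _ f.symm.surjective) (quasi_congr k hq)
    (by rwa [← Nat.card_congr k.toEquiv]) r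
  rwa [← card_sylow_congr r k] at h4

/-- **the groups with a good split (B,N)-pair** -/
theorem nrow_of_good {K : Type*} [Group K] [Finite K] {p : ℕ} [hp : Fact p.Prime] (hp2 : p ≠ 2)
    (h : HasGoodSplit p K) : NRow p K := by
  intro x hx A hAn hA hcop r hr
  have hbn := exists_bn (r := 2) (fun e => hp2 e.symm) h.hasSplit x hx
  have hle : A ≤ Hp p ↥(fixedSubgroup x) := by
    obtain ⟨P, U, -, hg⟩ := h
    have hxx : ∀ g, x (x g) = g := fun g => by
      have := congrArg (fun y : MulAut K => y g) hx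
      simpa [pow_two] using this
    have hperf : ⁅A, A⁆ = A := by
      have := hA.1
      exact Subgroup.commutator_eq_self (H := A)
    have hLp : ⁅A.map (fixedSubgroup x).subtype, A.map (fixedSubgroup x).subtype⁆ = A.map (fixedSubgroup x).subtype := by
      rw [← Subgroup.map_commutator, hperf]
    have h1 := GoodSplit.out hp2 hg (x : K ≃* K) hxx (L := A.map (fixedSubgroup x).subtype) (map_subtype_le A) hLp
    have h2 : Lib.PComponents.pElem p (Reduce.fixSub (x : K ≃* K)) ≤
        (Hp p ↥(fixedSubgroup x)).map (fixedSubgroup x).subtype := by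
      unfold Lib.PComponents.pElem
      rw [closure_le]
      rintro y ⟨hy, n, hn⟩
      exact ⟨⟨y, hy⟩, mem_Hp (n := n) (Subtype.ext hn), rfl⟩
    intro a ha
    obtain ⟨b, hb, hba⟩ := h2 (h1 ⟨a, ha, rfl⟩)
    have h3 : b = a := Subtype.ext hba
    rwa [← h3]
  obtain ⟨P, U, a, hUa, hU, hUB, hn, hc⟩ := hbn
  have hAn' : (A.subgroupOf (Hp p ↥(fixedSubgroup x))).Normal := hAn.subgroupOf _
  let k := subgroupOfEquivOfLe hle
  have h1 := card_sylow_modEq (K := A.subgroupOf (Hp p ↥(fixedSubgroup x))) P hUB hU hn hc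
    (by rwa [Nat.card_congr k.toEquiv]) (quasi_congr k.symm hA) (fun hcm => ?_) r
  · rwa [card_sylow_congr r k] at h1
  · -- all the Sylow subgroups centralise `A`
    have h2 : ∀ y ∈ A, ∀ u ∈ a, y * u = u * y := by
      intro y hy u hu
      have hu' : u ∈ Hp p ↥(fixedSubgroup x) := le_Hp a hu
      have h3 := hcm ⟨y, hle hy⟩ (mem_subgroupOf.2 hy) ⟨u, hu'⟩ (by rw [hUa]; exact hu)
      exact congrArg Subtype.val h3
    have h3 : Hp p ↥(fixedSubgroup x) ≤ centralizer (A : Set ↥(fixedSubgroup x)) := by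
      refine iSup_le fun b => ?_
      intro u hu
      obtain ⟨g, hg⟩ := MulAction.exists_smul_eq ↥(fixedSubgroup x) a b
      rw [← hg] at hu
      have hu' : g⁻¹ * u * g ∈ a := (Cfsg.Agent.FixBN.Gates.mem_smul_iff).1 hu
      rw [mem_centralizer_iff]
      intro y hy
      have h4 := h2 (g⁻¹ * y * g) (by simpa using hAn.conj_mem y hy g⁻¹) _ hu'
      calc y * u = g * (g⁻¹ * y * g * (g⁻¹ * u * g)) * g⁻¹ := by group
        _ = g * (g⁻¹ * u * g * (g⁻¹ * y * g)) * g⁻¹ := by rw [h4]
        _ = u * y := by group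
    have h4 : ∀ y ∈ A, ∀ z ∈ A, y * z = z * y := fun y hy z hz => mem_centralizer_iff.1 (h3 (hle hz)) y hy
    have := hA.1
    have := hA.2
    have : IsMulCommutative ↥A := ⟨⟨fun y z => Subtype.ext (h4 y y.2 z z.2)⟩⟩
    have hct : center ↥A = ⊤ := by
      rw [eq_top_iff]
      intro y _
      rw [mem_center_iff]
      exact fun z => Subtype.ext (h4 z z.2 y y.2)
    obtain ⟨y, hy⟩ := exists_ne (1 : ↥A ⧸ center ↥A)
    obtain ⟨z, rfl⟩ := QuotientGroup.mk_surjective y
    exact hy ((QuotientGroup.eq_one_iff z).2 (hct ▸ mem_top z))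

/-- **the theorem**, without the small Ree groups -/
theorem nrow {G : Type*} [Group G] [IsSimpleGroup G] {p : ℕ} (hp2 : p ≠ 2) (hG : IsLieTypeChar p G)
    (hR : ¬ Lie.IsoRee G) : NRow p G := by
  rcases exists_good_model hp2 hG with h | h
  · obtain ⟨K, _, _, _, _, h, ⟨e⟩⟩ := h
    exact (nrow_of_good hp2 h).congr e.symm
  · exact absurd h hR

/-- `p`-local subgroups -/
theorem lc_of_lie {G : Type*} [Group G] [Finite G] [IsSimpleGroup G] {p : ℕ} [Fact p.Prime] (hp2 : p ≠ 2)
    (hG : IsLieTypeChar p G) (hR : ¬ Lie.IsoRee G) (hc : ∃ a b : G, a * b ≠ b * a) : LC p G := by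
  have h1 : KFacts.RgdLieCharP.IsLieFilt p G := by
    rcases hG with h | h | h | h | h | h | h | h | h | h | h
    · exact Or.inl h
    · exact Or.inr (Or.inl h)
    · exact Or.inr (Or.inr (Or.inl h))
    · exact Or.inr (Or.inr (Or.inr (Or.inl h)))
    · exact Or.inr (Or.inr (Or.inr (Or.inr (Or.inl h))))
    · exact Or.inr (Or.inr (Or.inr (Or.inr (Or.inr (Or.inl h)))))
    · exact Or.inr (Or.inr (Or.inr (Or.inr (Or.inr (Or.inr (Or.inl h))))))
    · exact Or.inr (Or.inr (Or.inr (Or.inr (Or.inr (Or.inr (Or.inr h))))))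
    · exact absurd h.1 hp2
    · exact absurd h.1 hp2
    · exact absurd h.2 hR
  intro D hD hD1
  exact (KFacts.RgdLieCharP.hasFilt_of_lie h1).local_char hc hD hD1

/-- **S3145, piece OddU** -/
theorem oddU : Cfsg.Agent.H337.Bend.OddU.{u} := by
  intro G _ _ _ p hp hp2 hG K hK hU hrk
  have hpf : Fact p.Prime := ⟨hp⟩
  have h2f : Fact (Nat.Prime 2) := ⟨Nat.prime_two⟩
  obtain ⟨F, _, _, n, hn, hF, ⟨e⟩⟩ := hU
  have hF' : Nat.card F = (2 ^ n) ^ 2 := by rw [Nat.card_eq_fintype_card, hF]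
  have hc : ∃ a b : G, a * b ≠ b * a := by
    by_contra hcon
    push Not at hcon
    have hct : center ↥K = ⊤ := by
      rw [eq_top_iff]
      intro y _
      rw [mem_center_iff]
      exact fun z => Subtype.ext (hcon z y)
    have := hK.1.2
    obtain ⟨y, hy⟩ := exists_ne (1 : ↥K ⧸ center ↥K)
    obtain ⟨z, rfl⟩ := QuotientGroup.mk_surjective y
    exact hy ((QuotientGroup.eq_one_iff z).2 (hct ▸ mem_top z))
  have hR : ¬ Lie.IsoRee G := by
    intro hR
    obtain ⟨-, h16⟩ := Cfsg.Agent.H289.NoAlt.ree hR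
    obtain ⟨-, -, h1⟩ := card_sylow_psu (by omega : 1 ≤ n) hF'
    apply h16
    have h2 : (16 : ℕ) ∣ 2 ^ (n * 3) := by
      have : (16 : ℕ) = 2 ^ 4 := by norm_num
      rw [this]
      exact pow_dvd_pow 2 (by omega)
    have h3 : Nat.card (↥K ⧸ center ↥K) ∣ Nat.card ↥K := card_quotient_dvd_card _
    rw [Nat.card_congr e.toEquiv] at h3
    exact ((h2.trans h1).trans h3).trans (card_subgroup_dvd_card K)
  -- the four-group
  obtain ⟨V, hV2, hVc, hVK⟩ : ∃ V : Subgroup G, (∀ v ∈ V, v * v = 1) ∧ ¬ IsCyclic V ∧ V ≤ centralizer (K : Set G) := by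
    unfold PRankLE at hrk
    push Not at hrk
    obtain ⟨A, hAc, hA2, hAn⟩ := hrk
    refine ⟨A.map (centralizer (K : Set G)).subtype, ?_, ?_, map_subtype_le _⟩
    · rintro _ ⟨a, ha, rfl⟩
      have := congrArg Subtype.val (hA2 a ha)
      simpa [pow_two] using this
    · intro hcy
      have hcy' : IsCyclic ↥A := isCyclic_of_surjective
        (A.equivMapOfInjective (centralizer (K : Set G)).subtype (subtype_injective _)).symm.toMonoidHom
        (A.equivMapOfInjective (centralizer (K : Set G)).subtype (subtype_injective _)).symm.surjective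
      obtain ⟨g, hg⟩ := hcy'.exists_generator
      have h1 : orderOf g = Nat.card ↥A := orderOf_eq_card_of_forall_mem_zpowers hg
      have h2 : orderOf g ∣ 2 := orderOf_dvd_of_pow_eq_one (Subtype.ext (hA2 g g.2))
      have h3 := Nat.le_of_dvd (by norm_num) h2
      omega
  have hpK := not_dvd_card hp2 (lc_of_lie hp2 hG hR hc) hK hV2 hVc hVK
  obtain ⟨v, hv, hv1⟩ : ∃ v ∈ V, v ≠ 1 := by
    by_contra h
    push Not at h
    apply hVc
    have : V = ⊥ := (eq_bot_iff_forall V).2 h
    rw [this]; infer_instance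
  have hvo : orderOf v = 2 := by
    rw [orderOf_eq_prime_iff]
    exact ⟨by rw [pow_two]; exact hV2 v hv, hv1⟩
  have hmem : ∀ g : G, g ∈ fixedSubgroup (MulAut.conj v : G ≃* G) ↔ g * v = v * g := by
    intro g
    change v * g * v⁻¹ = g ↔ _
    rw [mul_inv_eq_iff_eq_mul, eq_comm]
  have hKv : K ≤ fixedSubgroup (MulAut.conj v : G ≃* G) := by
    intro k hk
    rw [hmem]
    exact mem_centralizer_iff.1 (hVK hv) k hk
  have hn : (K.subgroupOf (fixedSubgroup (MulAut.conj v : G ≃* G))).Normal := by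
    refine ⟨fun k hk g => ?_⟩
    rw [mem_subgroupOf] at hk ⊢
    have h1 : (g : G) ∈ normalizer (K : Set G) :=
      Cfsg.Agent.OddHalf.D4.EvenPair.cent_le (Cfsg.Agent.OddHalf.D4.EvenPair.tight_of_standard hK) (hVK hv) hvo
        ((hmem g).1 g.2)
    exact (mem_normalizer_iff.1 h1 k).1 hk
  let k := subgroupOfEquivOfLe hKv
  have h1 := nrow hp2 hG hR (MulAut.conj v) (by rw [pow_two, ← map_mul, hV2 v hv, map_one])
    (K.subgroupOf (fixedSubgroup (MulAut.conj v : G ≃* G))) hn (quasi_congr k.symm hK.1)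
    (by rw [Nat.card_congr k.toEquiv]; exact ((Nat.Prime.coprime_iff_not_dvd hp).2 hpK).symm) 2
  rw [card_sylow_congr 2 k] at h1
  exact not_modEq (by omega) hF' e hp hp2 h1

end Cfsg.Agent.H207.OddU
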